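import Cfsg.Agent.H846.RatB.Defs
import Cfsg.Agent.H846.RatB.Layer
import Cfsg.Agent.H700.PRat
import Cfsg.Agent.CharactersDeep.IndFun

/-!
# `p`-rational functions (S4891, TEAM B0-RAT)
-/

set_option autoImplicit false

namespace Cfsg.Agent.H846.RatB

open Cfsg
open H700.PRat (zet zet_prim fix_adjoin mem_adjoin_of_forall fix_root)

variable {p : ℕ} {G : Type*}

theorem adjoin_mono {n m : ℕ} (hm : m ≠ 0) :
    IntermediateField.adjoin ℚ ({zet n} : Set ℂ) ≤ IntermediateField.adjoin ℚ ({zet (n * m)} : Set ℂ) := by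
  rw [IntermediateField.adjoin_le_iff]
  rintro _ rfl
  have h : zet n = zet (n * m) ^ m := by
    show Complex.exp _ = Complex.exp _ ^ m
    rw [← Complex.exp_nat_mul]
    congr 1
    push_cast
    have : (m : ℂ) ≠ 0 := Nat.cast_ne_zero.2 hm
    by_cases hn : (n : ℂ) = 0
    · rw [hn]; simp
    · field_simp
  show zet n ∈ _
  rw [h]
  exact pow_mem (IntermediateField.subset_adjoin ℚ _ (Set.mem_singleton _)) m

theorem zet_mem_of_dvd {n k : ℕ} (hk : k ≠ 0) (h : n ∣ k) {x : ℂ}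
    (hx : x ∈ IntermediateField.adjoin ℚ ({zet n} : Set ℂ)) : x ∈ IntermediateField.adjoin ℚ ({zet k} : Set ℂ) := by
  obtain ⟨m, rfl⟩ := h
  exact adjoin_mono (fun h0 => hk (by rw [h0, mul_zero])) hx

/-- a common field for two `p`-rational functions -/
theorem PRatC.common {H : Type*} (hp : p.Prime) {χ : G → ℂ} {ψ : H → ℂ} (hχ : PRatC p χ) (hψ : PRatC p ψ) :
    ∃ n : ℕ, ¬ p ∣ n ∧ (∀ g, χ g ∈ IntermediateField.adjoin ℚ ({zet n} : Set ℂ)) ∧
      ∀ g, ψ g ∈ IntermediateField.adjoin ℚ ({zet n} : Set ℂ) := by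
  obtain ⟨n, hn, h1⟩ := hχ
  obtain ⟨m, hm, h2⟩ := hψ
  have hnm : ¬ p ∣ n * m := by
    rw [hp.dvd_mul]
    tauto
  have h0 : n * m ≠ 0 := fun h => hnm (h ▸ dvd_zero p)
  exact ⟨n * m, hnm, fun g => zet_mem_of_dvd h0 ⟨m, rfl⟩ (h1 g), fun g => zet_mem_of_dvd h0 ⟨n, mul_comm _ _⟩ (h2 g)⟩

theorem PRatC.mul (hp : p.Prime) {χ ψ : G → ℂ} (hχ : PRatC p χ) (hψ : PRatC p ψ) :
    PRatC p (fun g => χ g * ψ g) := by
  obtain ⟨n, hn, h1, h2⟩ := hχ.common hp hψ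
  exact ⟨n, hn, fun g => mul_mem (h1 g) (h2 g)⟩

theorem PRatC.comp {H : Type*} {χ : G → ℂ} (hχ : PRatC p χ) (f : H → G) : PRatC p (fun h => χ (f h)) := by
  obtain ⟨n, hn, h1⟩ := hχ
  exact ⟨n, hn, fun g => h1 (f g)⟩

/-- if all the values of `ψ` are values of `χ` -/
theorem PRatC.of_range {H : Type*} {χ : G → ℂ} (hχ : PRatC p χ) {ψ : H → ℂ} (h : ∀ x, ∃ g, ψ x = χ g) : PRatC p ψ := by
  obtain ⟨n, hn, h1⟩ := hχ
  refine ⟨n, hn, fun x => ?_⟩
  obtain ⟨g, hg⟩ := h x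
  rw [hg]
  exact h1 g

theorem pRatC_one (hp : p.Prime) : PRatC p (fun _ : G => (1 : ℂ)) :=
  ⟨1, fun h => hp.one_lt.ne' (Nat.dvd_one.1 h), fun _ => one_mem _⟩

theorem PRatC.indFun {G : Type*} [Group G] [Fintype G] (H : Subgroup G) {ψ : H → ℂ} (hψ : PRatC p ψ) :
    PRatC p (Cfsg.indFun H ψ) := by
  obtain ⟨n, hn, h1⟩ := hψ
  refine ⟨n, hn, fun g => ?_⟩
  show (Nat.card H : ℂ)⁻¹ * ∑ x : G, extendByZero H ψ (x⁻¹ * g * x) ∈ _
  refine mul_mem (inv_mem (natCast_mem _ _)) (sum_mem fun x _ => ?_)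
  by_cases hx : x⁻¹ * g * x ∈ H
  · rw [CharactersDeep.IndFun.extendByZero_mem H ψ hx]
    exact h1 _
  · rw [CharactersDeep.IndFun.extendByZero_notMem H ψ hx]
    exact zero_mem _

/-- the criterion by automorphisms -/
theorem pRatC_iff {χ : G → ℂ} (hint : ∀ g, IsIntegral ℚ (χ g)) :
    PRatC p χ ↔ ∃ n : ℕ, ¬ p ∣ n ∧ ∀ σ : ℂ ≃+* ℂ, σ (zet n) = zet n → ∀ g, σ (χ g) = χ g := by
  constructor
  · rintro ⟨n, hn, h⟩
    exact ⟨n, hn, fun σ hσ g => fix_adjoin σ hσ (h g)⟩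
  · rintro ⟨n, hn, h⟩
    exact ⟨n, hn, fun g => mem_adjoin_of_forall (hint g) fun σ hσ => h σ hσ g⟩

theorem integral_irr {G : Type*} [Group G] [Finite G] {χ : G → ℂ} (hχ : IsCharacter G χ) (g : G) :
    IsIntegral ℚ (χ g) := (Characters.GaloisBasic.isIntegral_apply hχ g).tower_top

/-- a root of unity of order prime to `p` -/
theorem root_mem {m : ℕ} (hm : m ≠ 0) {x : ℂ} (hx : x ^ m = 1) :
    x ∈ IntermediateField.adjoin ℚ ({zet m} : Set ℂ) := by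
  have : NeZero m := ⟨hm⟩
  obtain ⟨i, -, rfl⟩ := (zet_prim hm).eq_pow_of_pow_eq_one hx
  exact pow_mem (IntermediateField.subset_adjoin ℚ _ (Set.mem_singleton _)) i

/-- characters of groups of order prime to `p` -/
theorem pRatC_of_coprime {G : Type*} [Group G] [Finite G] (hG : ¬ p ∣ Nat.card G) {χ : G → ℂ} (hχ : IsCharacter G χ) :
    PRatC p χ := by
  refine ⟨Nat.card G, hG, fun g => ?_⟩
  obtain ⟨d, μ, -, h1, h2⟩ := Characters.GaloisBasic.isCharacter_exists_fin_pow hχ g (Nat.card_pos (α := G)).ne'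
    pow_card_eq_one'
  have h3 := h2 1
  rw [pow_one] at h3
  rw [h3]
  exact sum_mem fun i _ => pow_mem (root_mem (Nat.card_pos (α := G)).ne' (h1 i)) 1

end Cfsg.Agent.H846.RatB
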