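import Cfsg.Agent.H846.RatB.Gal
import Cfsg.Agent.H672.Over

/-!
# Fixed constituents of characters invariant under a `p`-group of automorphisms (S4891, TEAM B0-RAT)
-/

set_option autoImplicit false
set_option linter.style.haveILetI false
set_option linter.unusedSectionVars false

namespace Cfsg.Agent.H846.RatB

open Cfsg
open Cfsg.Agent.Characters.Core
open Cfsg.Agent.H672 (Over over_iff coe_charDegree charDegree_of_eq)

/-- modulo `p` only the fixed points count -/
theorem sum_fixed {A X : Type*} [Group A] [Finite A] [Fintype X] [MulAction A X] {p : ℕ} [hp : Fact p.Prime]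
    (hA : IsPGroup p A) (f : X → ℕ) (hf : ∀ (a : A) (x : X), f (a • x) = f x) (hs : ¬ p ∣ ∑ x, f x) :
    ∃ x : X, (∀ a : A, a • x = x) ∧ ¬ p ∣ f x := by
  classical
  by_contra hcon
  push Not at hcon
  apply hs
  have h1 : ∑ x, f x = ∑ c ∈ Finset.univ.image f, (Finset.univ.filter (fun x => f x = c)).card • c :=
    Finset.sum_comp (fun c => c) f
  rw [h1]
  refine Finset.dvd_sum fun c _ => ?_
  rw [smul_eq_mul]
  by_cases hc : p ∣ c
  · exact Dvd.dvd.mul_left hc _
  refine Dvd.dvd.mul_right ?_ _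
  let S : SubMulAction A X :=
    { carrier := {x | f x = c}
      smul_mem' := by
        intro a x hx
        show f (a • x) = c
        rw [hf]
        exact hx }
  have h2 : Nat.card S ≡ Nat.card (MulAction.fixedPoints A S) [MOD p] := hA.card_modEq_card_fixedPoints S
  have h3 : IsEmpty (MulAction.fixedPoints A S) := by
    constructor
    rintro ⟨⟨x, hx⟩, hx'⟩
    have h4 : ∀ a : A, a • x = x := fun a => congrArg Subtype.val (hx' a)
    apply hc
    have : f x = c := hx
    rw [← this]
    exact hcon x h4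
  have h6 : Nat.card (MulAction.fixedPoints A S) = 0 := Nat.card_of_isEmpty
  rw [h6] at h2
  have h5 : Nat.card S = (Finset.univ.filter (fun x => f x = c)).card := by
    have : Nat.card S = Nat.card {x : X // f x = c} := rfl
    rw [this, Nat.card_eq_fintype_card, Fintype.card_subtype]
  rw [← h5]
  exact (Nat.modEq_zero_iff_dvd).1 h2

/-- the action of a group of automorphisms on the irreducible characters -/
@[reducible] def irrAct {A K : Type*} [Group A] [Group K] (φ : A →* MulAut K) : MulAction A (IrrCharacter K) where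
  smul a χ := ⟨fun k => (χ : K → ℂ) ((φ a⁻¹) k), isIrr_comp ((φ a⁻¹).toMonoidHom) (φ a⁻¹).surjective χ.2⟩
  one_smul χ := by
    apply Subtype.ext
    funext k
    show (χ : K → ℂ) ((φ (1 : A)⁻¹) k) = _
    rw [inv_one, map_one]
    rfl
  mul_smul a b χ := by
    apply Subtype.ext
    funext k
    show (χ : K → ℂ) ((φ (a * b)⁻¹) k) = (χ : K → ℂ) ((φ b⁻¹) ((φ a⁻¹) k))
    rw [mul_inv_rev, map_mul]
    rfl

/-- **Fixed constituents.** A character of degree prime to `p` invariant under a `p`-group of automorphisms has a fixed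
irreducible constituent of degree prime to `p`. -/
theorem exists_fixed_constituent {A K : Type*} [Group A] [Finite A] [Group K] [Finite K] {p : ℕ} [hp : Fact p.Prime]
    (hA : IsPGroup p A) (φ : A →* MulAut K) {χ : K → ℂ} (hχ : IsCharacter K χ) (hinv : ∀ a k, χ (φ a k) = χ k)
    {n : ℕ} (hn : χ 1 = n) (hpn : ¬ p ∣ n) [Fintype K] :
    ∃ ξ : K → ℂ, IsIrrCharacter K ξ ∧ (∀ a k, ξ (φ a k) = ξ k) ∧ classInner χ ξ ≠ 0 ∧ ¬ p ∣ charDegree ξ := by
  classical
  haveI := finite_irr (G := K)
  letI := Fintype.ofFinite (IrrCharacter K)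
  obtain ⟨c, hc, hc'⟩ := CharDeep.CliffordCorr.exists_nat_coeffs hχ
  letI := irrAct φ
  have hsum : ∑ ξ : IrrCharacter K, c ξ * charDegree (ξ : K → ℂ) = n := by
    have h1 := congrFun hc 1
    rw [hn] at h1
    simp only [Finset.sum_apply, Pi.smul_apply, smul_eq_mul] at h1
    have h2 : (n : ℂ) = ((∑ ξ : IrrCharacter K, c ξ * charDegree (ξ : K → ℂ) : ℕ) : ℂ) := by
      rw [h1]
      push_cast
      exact Finset.sum_congr rfl fun ξ _ => by rw [coe_charDegree ξ.2]
    exact_mod_cast h2.symm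
  have hval : ∀ (a : A) (ξ : IrrCharacter K), ((a • ξ : IrrCharacter K) : K → ℂ) = fun k => (ξ : K → ℂ) ((φ a⁻¹) k) :=
    fun a ξ => rfl
  have hcinv : ∀ (a : A) (ξ : IrrCharacter K), c (a • ξ) = c ξ := by
    intro a ξ
    have h1 : classInner χ ((a • ξ : IrrCharacter K) : K → ℂ) = classInner χ (ξ : K → ℂ) := by
      rw [hval, classInner_def, classInner_def]
      congr 1
      refine Fintype.sum_equiv (φ a⁻¹).toEquiv _ _ fun k => ?_
      show χ k * _ = χ ((φ a⁻¹) k) * _
      rw [hinv]
      rfl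
    rw [hc', hc'] at h1
    exact_mod_cast h1
  have hdinv : ∀ (a : A) (ξ : IrrCharacter K), charDegree ((a • ξ : IrrCharacter K) : K → ℂ) = charDegree (ξ : K → ℂ) := by
    intro a ξ
    apply charDegree_of_eq
    rw [hval]
    show (ξ : K → ℂ) ((φ a⁻¹) 1) = _
    rw [map_one, coe_charDegree ξ.2]
  obtain ⟨ξ, h1, h2⟩ := sum_fixed hA (fun ξ : IrrCharacter K => c ξ * charDegree (ξ : K → ℂ))
    (fun a ξ => by rw [hcinv, hdinv]) (by rw [hsum]; exact hpn)
  rw [hp.out.dvd_mul, not_or] at h2
  refine ⟨ξ, ξ.2, fun a k => ?_, ?_, h2.2⟩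
  · have h3 := congrFun (congrArg Subtype.val (h1 a⁻¹)) k
    rw [hval, inv_inv] at h3
    exact h3
  · rw [hc']
    intro h0
    have : c ξ = 0 := by exact_mod_cast h0
    exact h2.1 (this ▸ dvd_zero p)

/-- induced functions and automorphisms -/
theorem indFun_aut {K : Type*} [Group K] [Fintype K] (H : Subgroup K) (θ : H → ℂ) (α : MulAut K)
    (h : ∀ k, extendByZero H θ (α k) = extendByZero H θ k) (g : K) : indFun H θ (α g) = indFun H θ g := by
  rw [CharactersDeep.IndFun.indFun_def, CharactersDeep.IndFun.indFun_def]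
  congr 1
  symm
  refine Fintype.sum_equiv α.toEquiv _ _ fun x => ?_
  show _ = extendByZero H θ ((α x)⁻¹ * α g * α x)
  rw [← map_inv, ← map_mul, ← map_mul, h]

/-- induction from a subgroup of index prime to `p` -/
theorem exists_fixed_over {A K : Type*} [Group A] [Finite A] [Group K] [Finite K] {p : ℕ} [hp : Fact p.Prime]
    (hA : IsPGroup p A) (φ : A →* MulAut K) (H : Subgroup K) (hH : ¬ p ∣ H.index) {θ : H → ℂ}
    (hθ : IsIrrCharacter H θ) (hd : ¬ p ∣ charDegree θ)
    (hinv : ∀ (a : A) (k : K), extendByZero H θ (φ a k) = extendByZero H θ k) :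
    ∃ ξ : K → ℂ, IsIrrCharacter K ξ ∧ (∀ a k, ξ (φ a k) = ξ k) ∧ Over H.subtype ξ θ ∧ ¬ p ∣ charDegree ξ := by
  classical
  letI := Fintype.ofFinite K
  letI := Fintype.ofFinite H
  have h1 : IsCharacter K (indFun H θ) := CharDeep.CliffordCorr.isCharacter_indFun H (isIrr_isCharacter hθ)
  have h2 : indFun H θ 1 = ((H.index * charDegree θ : ℕ) : ℂ) := by
    rw [CharactersDeep.IndFun.indFun_def]
    have h3 : ∀ x : K, extendByZero H θ (x⁻¹ * 1 * x) = θ 1 := by
      intro x
      have h4 : x⁻¹ * 1 * x = 1 := by group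
      rw [h4, CharactersDeep.IndFun.extendByZero_mem H θ (one_mem H)]
      rfl
    simp only [h3, Finset.sum_const, Finset.card_univ, nsmul_eq_mul]
    rw [← Nat.card_eq_fintype_card, ← H.card_mul_index, ← coe_charDegree hθ]
    have h5 : (Nat.card H : ℂ) ≠ 0 := Nat.cast_ne_zero.2 Nat.card_pos.ne'
    push_cast
    field_simp
  obtain ⟨ξ, h3, h4, h5, h6⟩ := exists_fixed_constituent hA φ h1 (fun a k => indFun_aut H θ (φ a) (hinv a) k) h2
    (by rw [hp.out.dvd_mul]; tauto)
  refine ⟨ξ, h3, h4, ?_, h6⟩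
  rw [over_iff]
  have h7 := CharactersDeep.NormalInd.classInner_indFun H θ ξ (isIrr_isClassFunction h3)
  rw [h7] at h5
  intro h8
  apply h5
  rw [← classInner_conj_symm]
  have : classInner (fun h : H => ξ h) θ = 0 := h8
  rw [this, map_zero]

end Cfsg.Agent.H846.RatB
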