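import Cfsg.Agent.H846.RatB.Layer

/-!
# Quotients with self-normalizing Sylow subgroups (S4891, TEAM B0-RAT)
-/

set_option autoImplicit false

namespace Cfsg.Agent.H846.RatB

open Cfsg
open scoped Pointwise

variable {p : ℕ} [hp : Fact p.Prime] {T : Type*} [Group T] [Finite T]

theorem SN.up {R K : Subgroup T} (h : SN p R) (hRK : R ≤ K) : SN p K := by
  intro P y hy
  have hle : (P : Subgroup T) ≤ (P : Subgroup T) ⊔ K := le_sup_left
  have hle' : ((y • P : Sylow p T) : Subgroup T) ≤ (P : Subgroup T) ⊔ K := by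
    intro x hx
    rw [Sylow.coe_subgroup_smul, Subgroup.mem_smul_pointwise_iff_exists] at hx
    obtain ⟨z, hz, rfl⟩ := hx
    exact hy z hz
  obtain ⟨u, hu⟩ := MulAction.exists_smul_eq ↥((P : Subgroup T) ⊔ K) (P.subtype hle) ((y • P : Sylow p T).subtype hle')
  have h1 : ((u : T) • P : Sylow p T) = y • P := by
    apply Sylow.subtype_injective (hP := ?_) (hQ := hle') ?_
    · intro x hx
      rw [Sylow.coe_subgroup_smul, Subgroup.mem_smul_pointwise_iff_exists] at hx
      obtain ⟨z, hz, rfl⟩ := hx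
      exact mul_mem (mul_mem u.2 (hle hz)) (inv_mem u.2)
    · rw [← hu, Sylow.smul_subtype]
      rfl
  have h2 : ((u : T)⁻¹ * y) • P = P := by
    rw [mul_smul, ← h1, inv_smul_smul]
  have h3 : (u : T)⁻¹ * y ∈ (P : Subgroup T) ⊔ R := by
    apply h P
    intro x hx
    apply Subgroup.mem_sup_left
    have h4 : ((u : T)⁻¹ * y) * x * ((u : T)⁻¹ * y)⁻¹ ∈ ((((u : T)⁻¹ * y) • P : Sylow p T) : Subgroup T) := by
      rw [Sylow.coe_subgroup_smul]
      exact Subgroup.smul_mem_pointwise_smul x (MulAut.conj ((u : T)⁻¹ * y)) (P : Subgroup T) hx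
    rwa [h2] at h4
  have h4 : y = u * ((u : T)⁻¹ * y) := by group
  rw [h4]
  exact mul_mem u.2 (sup_le_sup_left hRK _ h3)

/-- subgroups containing a Sylow subgroup -/
theorem SN.sub {K : Subgroup T} (h : SN p K) (T1 : Subgroup T) (hK : K ≤ T1) (hi : ¬ p ∣ T1.index) :
    SN p (K.subgroupOf T1) := by
  intro P1 y hy
  have hP : IsPGroup p ((P1 : Subgroup T1).map T1.subtype) := P1.2.map _
  have hPi : ¬ p ∣ ((P1 : Subgroup T1).map T1.subtype).index := by
    rw [Subgroup.index_map_subtype, hp.out.dvd_mul]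
    rintro (h1 | h1)
    · exact P1.not_dvd_index h1
    · exact hi h1
  let P : Sylow p T := hP.toSylow hPi
  have hPc : (P : Subgroup T) = (P1 : Subgroup T1).map T1.subtype := rfl
  have hsup : ((P1 : Subgroup T1) ⊔ K.subgroupOf T1).map T1.subtype = (P : Subgroup T) ⊔ K := by
    rw [Subgroup.map_sup, Subgroup.subgroupOf_map_subtype, inf_eq_left.2 hK, hPc]
  have h1 : (y : T) ∈ (P : Subgroup T) ⊔ K := by
    apply h P
    intro x hx
    have hx' : x ∈ (P1 : Subgroup T1).map T1.subtype := hx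
    obtain ⟨z, hz, rfl⟩ := hx'
    have := hy z hz
    rw [← hsup]
    exact ⟨y * z * y⁻¹, this, rfl⟩
  rw [← hsup] at h1
  obtain ⟨z, hz, hzy⟩ := h1
  have : z = y := Subtype.ext hzy
  rw [← this]
  exact hz

theorem SN.map {T' : Type*} [Group T'] {R : Subgroup T} (h : SN p R) (f : T →* T') (hf : Function.Surjective f)
    (hk : f.ker ≤ R) : SN p (R.map f) := by
  have : Finite T' := Finite.of_surjective f hf
  intro P' y' hy'
  obtain ⟨P, hP⟩ := Sylow.mapSurjective_surjective hf p P'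
  obtain ⟨y, rfl⟩ := hf y'
  have hPc : (P' : Subgroup T') = (P : Subgroup T).map f := by rw [← hP]; rfl
  have hsup : (P' : Subgroup T') ⊔ R.map f = ((P : Subgroup T) ⊔ R).map f := by rw [hPc, Subgroup.map_sup]
  have hmem : ∀ z, f z ∈ ((P : Subgroup T) ⊔ R).map f → z ∈ (P : Subgroup T) ⊔ R := by
    rintro z ⟨w, hw, hwz⟩
    have h1 : w⁻¹ * z ∈ f.ker := by
      rw [MonoidHom.mem_ker, map_mul, map_inv, hwz, inv_mul_cancel]
    have h2 : z = w * (w⁻¹ * z) := by group
    rw [h2]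
    exact mul_mem hw (Subgroup.mem_sup_right (hk h1))
  rw [hsup]
  refine ⟨y, h P y fun x hx => hmem _ ?_, rfl⟩
  rw [← hsup, map_mul, map_mul, map_inv]
  apply hy'
  have : f x ∈ (P' : Subgroup T') := by
    rw [hPc]
    exact ⟨x, hx, rfl⟩
  exact this

theorem SN.comap {T' : Type*} [Group T'] {R : Subgroup T'} (h : SN p R) (f : T →* T') (hf : Function.Surjective f) :
    SN p (R.comap f) := by
  have : Finite T' := Finite.of_surjective f hf
  intro P y hy
  have hPc : ((P.mapSurjective hf : Sylow p T') : Subgroup T') = (P : Subgroup T).map f := rfl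
  have hsup : ((P.mapSurjective hf : Sylow p T') : Subgroup T') ⊔ R = ((P : Subgroup T) ⊔ R.comap f).map f := by
    rw [hPc, Subgroup.map_sup, Subgroup.map_comap_eq_self_of_surjective hf]
  have hmem : ∀ z, f z ∈ ((P : Subgroup T) ⊔ R.comap f).map f → z ∈ (P : Subgroup T) ⊔ R.comap f := by
    rintro z ⟨w, hw, hwz⟩
    have h1 : w⁻¹ * z ∈ R.comap f := by
      rw [Subgroup.mem_comap, map_mul, map_inv, hwz, inv_mul_cancel]
      exact one_mem R
    have h2 : z = w * (w⁻¹ * z) := by group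
    rw [h2]
    exact mul_mem hw (Subgroup.mem_sup_right h1)
  apply hmem
  rw [← hsup]
  apply h (P.mapSurjective hf) (f y)
  intro x' hx'
  have hx'' : x' ∈ (P : Subgroup T).map f := hx'
  obtain ⟨x, hx, rfl⟩ := hx''
  rw [hsup, ← map_inv, ← map_mul, ← map_mul]
  exact ⟨_, hy x hx, rfl⟩

/-- no linear characters of order prime to `p` -/
theorem SN.hom_eq_one {R : Subgroup T} (h : SN p R) {A : Type*} [CommGroup A] (δ : T →* A) (hR : ∀ r ∈ R, δ r = 1)
    {d : ℕ} (hd : ¬ p ∣ d) (hδ : ∀ x, δ x ^ d = 1) : δ = 1 := by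
  have hK : SN p δ.ker := h.up (fun r hr => hR r hr)
  obtain ⟨P⟩ : Nonempty (Sylow p T) := inferInstance
  have hP : (P : Subgroup T) ≤ δ.ker := by
    intro x hx
    obtain ⟨k, hk⟩ := P.2 ⟨x, hx⟩
    have hk' : x ^ p ^ k = 1 := congrArg Subtype.val hk
    have h1 : δ x ^ p ^ k = 1 := by rw [← map_pow, hk', map_one]
    have h2 : Nat.Coprime d (p ^ k) :=
      (Nat.Coprime.pow_right k ((Nat.coprime_comm).1 ((Nat.Prime.coprime_iff_not_dvd hp.out).2 hd)))
    have h3 := orderOf_dvd_of_pow_eq_one h1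
    have h4 := orderOf_dvd_of_pow_eq_one (hδ x)
    have h5 := Nat.dvd_gcd h4 h3
    rw [h2] at h5
    exact orderOf_eq_one_iff.1 (Nat.dvd_one.1 h5)
  ext y
  have h1 : y ∈ (P : Subgroup T) ⊔ δ.ker := by
    apply hK P
    intro x hx
    apply Subgroup.mem_sup_right
    rw [MonoidHom.mem_ker, map_mul, map_mul, map_inv, mul_comm (δ y), mul_assoc, mul_inv_cancel, mul_one]
    exact hP hx
  rw [sup_eq_right.2 hP] at h1
  exact h1

end Cfsg.Agent.H846.RatB
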