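import Cfsg.Agent.H846.RatB.Gal
import Cfsg.Agent.H846.RatB.SNorm
import Cfsg.Agent.H595.Triple
import Cfsg.Agent.H672.Over
import Cfsg.Agent.Characters.GaloisIrr

/-!
# Reduction to the central case, `p`-rational version (S4891, TEAM B0-RAT)
-/

set_option autoImplicit false
set_option linter.style.haveILetI false
set_option linter.unusedSectionVars false

namespace Cfsg.Agent.H846.RatB

open Cfsg
open Cfsg.Agent.Characters.Core
open Cfsg.Agent.H595.Triple Cfsg.Agent.H595.Count Cfsg.Agent.H595.Central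
open Cfsg.Agent.CharDeep.ProjExt Cfsg.Agent.CharDeep.TripleCover
open Cfsg.Agent.CharactersDeep.ExtUnique (detChar_of_rep detChar_mul_hom exists_hom_mul_of_restrict_eq)
open H700.PRat (zet zet_prim fix_adjoin mem_adjoin_of_forall fix_root)
open Cfsg.Agent.H672 (Over over_iff coe_charDegree charDegree_of_eq)
open Module

universe u

/-- the cover with determinants in the `m`-th roots of unity -/
theorem exists_cov_m {Γ : Type u} [Group Γ] [Finite Γ] (N : Subgroup Γ) [hN : N.Normal]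
    (θ : IrrCharacter N) (hinv : CInv N (θ : N → ℂ)) {m : ℕ} (hm : m ≠ 0)
    (hdet : ∀ n, detChar (θ : N → ℂ) n ^ m = 1) :
    ∃ (Δ : Type u) (_ : Group Δ) (_ : Finite Δ) (π : Δ →* Γ) (s : N →* Δ) (χR : Δ → ℂ),
      Cov N (θ : N → ℂ) Δ π s χR ∧ (∀ x, detChar χR x ^ m = 1) ∧
        ∀ z, π z = 1 → z ^ (charDegree (θ : N → ℂ) * m) = 1 := by
  obtain ⟨k, ρ, hρ, hθ⟩ := θ.2
  have hk : charDegree (θ : N → ℂ) = k := by
    apply charDegree_of_eq
    rw [← hθ, Representation.char_one]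
    simp
  have hinv' : ∀ (g : Γ) (n : N), ρ.character (MulAut.conjNormal g n) = ρ.character n := by
    intro g n
    rw [hθ, ← hinv g n]
    congr 1
  have hdet' : ∀ n, LinearMap.det (ρ n) ^ m = 1 := by
    intro n
    have := hdet n
    rw [← hθ, detChar_of_rep ρ hρ] at this
    exact this
  have hV : Nontrivial (Fin k → ℂ) := ((CharDeep.LinearChar.isIrreducible_iff ρ).1 hρ).1
  let V := Fin k → ℂ
  let D : (Γ × (V →ₗ[ℂ] V)ˣ) →* ℂˣ :=
    (Units.map (LinearMap.det : (V →ₗ[ℂ] V) →* ℂ)).comp (MonoidHom.snd Γ (V →ₗ[ℂ] V)ˣ)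
  let P : (Γ × (V →ₗ[ℂ] V)ˣ) →* ℂˣ := (powMonoidHom m).comp D
  let Δ : Subgroup (Γ × (V →ₗ[ℂ] V)ˣ) := intGroup ρ ⊓ P.ker
  have hΔ : Δ ≤ intGroup ρ := inf_le_left
  have hker : ∀ x : Δ, x ∈ (proj Δ).ker → ∃ c : ℂ, (x.1.2 : V →ₗ[ℂ] V) = c • (1 : V →ₗ[ℂ] V) :=
    fun x hx => exists_scalar_of_fst_eq_one ρ hρ x.1 (hΔ x.2) hx
  have hfr : finrank ℂ V = k := by simp [V]
  choose c hc using hker
  have hcpow : ∀ (x : Δ) (hx : x ∈ (proj Δ).ker), c x hx ^ (k * m) = 1 := by
    intro x hx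
    have h1 : P x.1 = 1 := x.2.2
    have h2 : (LinearMap.det (x.1.2 : V →ₗ[ℂ] V)) ^ m = 1 := congrArg Units.val h1
    rw [hc x hx, LinearMap.det_smul, map_one, mul_one, ← pow_mul, hfr] at h2
    exact h2
  have hk0 : k ≠ 0 := by
    rintro rfl
    exact not_subsingleton V inferInstance
  have hkm : k * m ≠ 0 := mul_ne_zero hk0 hm
  have hfin : Finite Δ := by
    have hfin : Finite (proj Δ).ker := by
      have : NeZero (k * m) := ⟨hkm⟩
      have hroots : Finite (rootsOfUnity (k * m) ℂ) := inferInstance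
      refine Finite.of_injective
        (fun x : (proj Δ).ker => (rootsOfUnity.mkOfPowEq (n := k * m)
          (c x.1 x.2) (hcpow x.1 x.2))) ?_
      intro x y hxy
      have h3 : c x.1 x.2 = c y.1 y.2 := by
        have := congrArg (fun z : rootsOfUnity (k * m) ℂ => ((z : ℂˣ) : ℂ)) hxy
        simpa using this
      apply Subtype.ext
      apply Subtype.ext
      refine Prod.ext ?_ (Units.ext ?_)
      · exact (x.2 : proj Δ x.1 = 1).trans (y.2 : proj Δ y.1 = 1).symm
      · rw [hc x.1 x.2, hc y.1 y.2, h3]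
    exact Finite.of_equiv _ (Subgroup.groupEquivQuotientProdSubgroup (s := (proj Δ).ker)).symm
  have hsurj : Function.Surjective (proj Δ) := by
    intro g
    obtain ⟨T, hT, hTd⟩ := exists_mem_intGroup ρ hρ hinv' g 1
    refine ⟨⟨(g, T), hT, ?_⟩, rfl⟩
    show (D (g, T)) ^ m = 1
    have : D (g, T) = 1 := Units.ext hTd
    rw [this, one_pow]
  have hsec : ∀ n, sec ρ n ∈ Δ := by
    intro n
    refine ⟨sec_mem_intGroup ρ n, ?_⟩
    show (D (sec ρ n)) ^ m = 1
    apply Units.ext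
    rw [Units.val_pow_eq_pow_val, Units.val_one]
    exact hdet' n
  have hcent : (proj Δ).ker ≤ Subgroup.center Δ := by
    intro x hx
    rw [Subgroup.mem_center_iff]
    intro y
    apply Subtype.ext
    refine Prod.ext ?_ (Units.ext ?_)
    · show y.1.1 * x.1.1 = x.1.1 * y.1.1
      have : x.1.1 = 1 := hx
      rw [this, mul_one, one_mul]
    · show ((y.1.2 * x.1.2 : (V →ₗ[ℂ] V)ˣ) : V →ₗ[ℂ] V) = ((x.1.2 * y.1.2 : (V →ₗ[ℂ] V)ˣ) : _)
      rw [Units.val_mul, Units.val_mul, hc x hx, smul_mul_assoc, mul_smul_comm, one_mul, mul_one]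
  let s : N →* Δ := (sec ρ).codRestrict Δ hsec
  have hRs : ∀ n, coverRep Δ (s n) = ρ n := fun n => sec_snd ρ n
  have hirrR : (coverRep Δ).IsIrreducible := by
    refine Cfsg.Agent.CharactersDeep.IrrEquiv.isIrreducible_of_comp (coverRep Δ) s ?_
    have : (MonoidHom.comp (coverRep Δ) s : Representation ℂ N (Fin k → ℂ)) = ρ :=
      MonoidHom.ext fun n => hRs n
    rw [this]
    exact hρ
  refine ⟨Δ, inferInstance, hfin, proj Δ, s, (coverRep Δ).character, ⟨hsurj, hcent, fun n => rfl, ?_, ?_, ?_⟩, ?_, ?_⟩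
  · constructor
    rintro _ ⟨n, rfl⟩ x
    exact ⟨MulAut.conjNormal x.1.1 n, Subtype.ext (conj_sec ρ x.1 (hΔ x.2) n).symm⟩
  · exact isIrrCharacter_of_rep _ hirrR
  · intro n
    rw [← hθ]
    show LinearMap.trace ℂ _ (coverRep Δ (s n)) = LinearMap.trace ℂ _ (ρ n)
    rw [hRs]
  · intro x
    have hdx : detChar (coverRep Δ).character x = LinearMap.det (coverRep Δ x) :=
      congrFun (detChar_of_rep (coverRep Δ) hirrR) x
    rw [hdx]
    have h1 : P x.1 = 1 := x.2.2
    exact congrArg Units.val h1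
  · intro z hz
    rw [hk]
    apply Subtype.ext
    refine Prod.ext ?_ (Units.ext ?_)
    · have : z.1.1 = 1 := hz
      show (z.1.1) ^ (k * m) = 1
      rw [this, one_pow]
    · show ((z.1.2 ^ (k * m) : (V →ₗ[ℂ] V)ˣ) : V →ₗ[ℂ] V) = 1
      have hz' : z ∈ (proj Δ).ker := hz
      rw [Units.val_pow_eq_pow_val, hc z hz', smul_pow, one_pow, hcpow z hz', one_smul]

/-- **Reduction to the central case.** -/
theorem central_reduce {p : ℕ} [hp : Fact p.Prime] (hp2 : p ≠ 2) {Γ : Type u} [Group Γ] [Finite Γ] (N : Subgroup Γ)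
    [hN : N.Normal] (θ : N → ℂ) (hθ : IsIrrCharacter N θ) (hinv : CInv N θ) (hd : ¬ p ∣ charDegree θ)
    (hrat : PRatC p θ) (hSN : SN p N) :
    ∃ (Q : Type u) (_ : Group Q) (_ : Finite Q) (Z : Subgroup Q) (l : Z →* ℂˣ), Z ≤ Subgroup.center Q ∧
      ¬ p ∣ Nat.card Z ∧ Z.index = N.index ∧ SN p Z ∧
      ∀ β : Q → ℂ, IsIrrCharacter Q β → (∀ (q : Q) (z : Z), β (q * z) = β q * l z) → ¬ p ∣ charDegree β →
        PRatC p β → ∃ χ : Γ → ℂ, IsIrrCharacter Γ χ ∧ ¬ p ∣ charDegree χ ∧ PRatC p χ ∧ Over N.subtype χ θ := by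
  classical
  obtain ⟨n0, hn0, hrat0⟩ := hrat
  set m := Nat.card N / p ^ (Nat.card N).factorization p with hm
  have hpm : ¬ p ∣ m := Nat.not_dvd_ordCompl hp.out Nat.card_pos.ne'
  have hm0 : m ≠ 0 := fun h => hpm (h ▸ dvd_zero p)
  have hdet : ∀ n, detChar θ n ^ m = 1 := fun n => H700.PRat.detChar_pow_eq_one hp.out hp2 hθ hn0 hrat0 n
  obtain ⟨Δ, iΔ, fΔ, π, s, χR, h, hdetR, hker⟩ := exists_cov_m N ⟨θ, hθ⟩ hinv hm0 hdet
  set d := charDegree θ with hdd
  have hd0 : d ≠ 0 := fun h0 => hd (h0 ▸ dvd_zero p)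
  have hpdm : ¬ p ∣ d * m := by
    rw [hp.out.dvd_mul]
    tauto
  have hdm0 : d * m ≠ 0 := mul_ne_zero hd0 hm0
  -- the quotient
  have hLn := h.normal
  let L : Subgroup Δ := s.range
  let mk : Δ →* Δ ⧸ L := QuotientGroup.mk' L
  have hmk : Function.Surjective mk := QuotientGroup.mk'_surjective L
  have hkmk : mk.ker = L := QuotientGroup.ker_mk' L
  let Z : Subgroup (Δ ⧸ L) := π.ker.map mk
  have hZc : Z ≤ Subgroup.center (Δ ⧸ L) := by
    rintro _ ⟨z, hz, rfl⟩
    rw [Subgroup.mem_center_iff]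
    intro q
    obtain ⟨x, rfl⟩ := hmk q
    rw [← map_mul, ← map_mul, Subgroup.mem_center_iff.1 (h.ker_le hz) x]
  have hLN : L ≤ N.comap π := by
    rintro _ ⟨n, rfl⟩
    show π (s n) ∈ N
    rw [h.section_]
    exact n.2
  have hsup : N.comap π = π.ker ⊔ L := by
    apply le_antisymm
    · intro x hx
      obtain ⟨n, z, hz, rfl⟩ := h.comap_eq x hx
      exact mul_mem (Subgroup.mem_sup_right ⟨n, rfl⟩) (Subgroup.mem_sup_left hz)
    · refine sup_le (fun x hx => ?_) hLN
      show π x ∈ N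
      rw [MonoidHom.mem_ker.1 hx]
      exact one_mem N
  have hZcomap : Z.comap mk = N.comap π := by
    rw [Subgroup.comap_map_eq, hkmk, hsup]
  have hZmap : (N.comap π).map mk = Z := by
    rw [← hZcomap, Subgroup.map_comap_eq_self_of_surjective hmk]
  have hZi : Z.index = N.index := by
    rw [← Subgroup.index_comap_of_surjective Z hmk, hZcomap,
      Subgroup.index_comap_of_surjective N h.surj]
  have hSNΔ : SN p (N.comap π) := hSN.comap π h.surj
  have hSNZ : SN p Z := by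
    rw [← hZmap]
    exact hSNΔ.map mk hmk (by rw [hkmk]; exact hLN)
  -- the linear character of `Z`
  obtain ⟨c, hc, -⟩ := Cfsg.Agent.CharactersDeep.Extraspecial.exists_central_hom h.irr
  let c' : π.ker →* ℂˣ := c.comp (Subgroup.inclusion h.ker_le)
  have hc' : ∀ (x : Δ) (z : π.ker), χR (x * z) = χR x * c' z := fun x z =>
    hc x (Subgroup.inclusion h.ker_le z)
  have hkp : ∀ z : π.ker, z ^ (d * m) = 1 := fun z => Subtype.ext (hker z z.2)
  have hcp : ∀ z : π.ker, (c' z : ℂ) ^ (d * m) = 1 := by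
    intro z
    rw [← Units.val_pow_eq_pow_val, ← map_pow, hkp, map_one, Units.val_one]
  let f : π.ker →* Z := (mk.comp π.ker.subtype).codRestrict Z (fun z => ⟨z, z.2, rfl⟩)
  have hfb : Function.Bijective f := by
    constructor
    · rw [injective_iff_map_eq_one]
      intro z hz
      have h1 : mk (z : Δ) = 1 := congrArg (fun y : Z => (y : Δ ⧸ L)) hz
      have h2 : (z : Δ) ∈ L := (QuotientGroup.eq_one_iff _).1 h1
      exact Subtype.ext (h.disj (MonoidHom.mem_ker.1 z.2) h2)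
    · rintro ⟨_, z, hz, rfl⟩
      exact ⟨⟨z, hz⟩, rfl⟩
  let e : π.ker ≃* Z := MulEquiv.ofBijective f hfb
  let l : Z →* ℂˣ := (c'⁻¹).comp e.symm.toMonoidHom
  have hl : ∀ z : π.ker, l (e z) = (c' z)⁻¹ := by
    intro z
    show (c'⁻¹) (e.symm (e z)) = _
    rw [e.symm_apply_apply]
    rfl
  have hZp : ¬ p ∣ Nat.card Z := by
    intro hdvd
    obtain ⟨z, hz⟩ := exists_prime_orderOf_dvd_card' p hdvd
    have h1 : z ^ (d * m) = 1 := by
      obtain ⟨y, rfl⟩ := e.surjective z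
      rw [← map_pow, hkp, map_one]
    have h2 := orderOf_dvd_of_pow_eq_one h1
    rw [hz] at h2
    exact hpdm h2
  -- `χR` is `p`-rational
  have hR1 : χR 1 = (d : ℂ) := by
    have := h.ext 1
    rw [map_one] at this
    rw [this, hdd, coe_charDegree hθ]
  have hRrat : PRatC p χR := by
    rw [pRatC_iff (fun g => integral_irr (isIrr_isCharacter h.irr) g)]
    have hn00 : n0 ≠ 0 := fun h0 => hn0 (h0 ▸ dvd_zero p)
    have hD0 : n0 * (d * m) ≠ 0 := mul_ne_zero hn00 hdm0
    refine ⟨n0 * (d * m), ?_, ?_⟩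
    · rw [hp.out.dvd_mul]
      tauto
    intro σ hσ g
    have hσθ : ∀ n, σ (θ n) = θ n := fun n =>
      fix_adjoin σ hσ (zet_mem_of_dvd hD0 ⟨d * m, rfl⟩ (hrat0 n))
    have hσr : ∀ z : ℂ, z ^ (d * m) = 1 → σ z = z := fun z hz => fix_root hD0 σ hσ ⟨n0, mul_comm _ _⟩ hz
    have hirr' : IsIrrCharacter Δ (fun x => σ (χR x)) := Characters.GaloisIrr.isIrr_map σ h.irr
    -- the two extensions
    let θL : L → ℂ := fun y => χR y
    have hθL : IsIrrCharacter L θL := by
      refine isIrr_of_comp (s.codRestrict L fun n => ⟨n, rfl⟩) (isCharacter_comp L.subtype (isIrr_isCharacter h.irr)) ?_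
      have e1 : (θL ∘ (s.codRestrict L fun n => ⟨n, rfl⟩)) = θ := funext fun n => h.ext n
      rw [e1]
      exact hθ
    obtain ⟨δ, hδL, hδ⟩ := exists_hom_mul_of_restrict_eq L (isIrr_isCharacter h.irr) (isIrr_isCharacter hirr')
      hθL (fun y => rfl) (by
        rintro ⟨_, n, rfl⟩
        show σ (χR (s n)) = χR (s n)
        rw [h.ext, hσθ])
    have hδker : ∀ z, π z = 1 → δ z = 1 := by
      intro z hz
      have h1 := hδ z
      have h2 := hc' 1 ⟨z, hz⟩
      rw [one_mul, hR1] at h2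
      have h2' : χR z = d * c' ⟨z, hz⟩ := h2
      have h3 : σ (χR z) = χR z := by
        rw [h2', map_mul, map_natCast, hσr _ (hcp ⟨z, hz⟩)]
      have h1' : σ (χR z) = χR z * δ z := h1
      rw [h3] at h1'
      have h4 : χR z ≠ 0 := by
        rw [h2']
        exact mul_ne_zero (Nat.cast_ne_zero.2 hd0) (Units.ne_zero _)
      have h5 : ((δ z : ℂˣ) : ℂ) = 1 := by
        have : χR z * 1 = χR z * δ z := by rw [mul_one]; exact h1'
        exact (mul_left_cancel₀ h4 this).symm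
      exact Units.ext h5
    have hδN : ∀ r ∈ N.comap π, δ r = 1 := by
      intro r hr
      obtain ⟨n, z, hz, rfl⟩ := h.comap_eq r hr
      rw [map_mul, hδL _ ⟨n, rfl⟩, hδker z hz, one_mul]
    have hδd : ∀ x, δ x ^ d = 1 := by
      intro x
      have h1 := H700.PRat.detChar_map σ h.irr x
      have h2 : (fun x => σ (χR x)) = fun x => χR x * δ x := funext hδ
      rw [h2, detChar_mul_hom h.irr hR1] at h1
      have h3 : σ (detChar χR x) = detChar χR x := by
        apply hσr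
        rw [mul_comm, pow_mul, hdetR, one_pow]
      rw [h3] at h1
      have h4 : detChar χR x ≠ 0 := by
        intro h0
        have := hdetR x
        rw [h0, zero_pow hm0] at this
        exact zero_ne_one this
      have h5 : detChar χR x * (δ x : ℂ) ^ d = detChar χR x * 1 := by rw [mul_one]; exact h1
      have h6 := mul_left_cancel₀ h4 h5
      apply Units.ext
      rw [Units.val_pow_eq_pow_val, Units.val_one]
      exact h6
    have hδ1 : δ = 1 := hSNΔ.hom_eq_one δ hδN hd hδd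
    have := hδ g
    rw [hδ1] at this
    simpa using this
  refine ⟨Δ ⧸ L, inferInstance, inferInstance, Z, l, hZc, hZp, hZi, hSNZ, ?_⟩
  intro β hβ hβl hβd hβr
  -- the product character
  have hχN : IsIrrCharacter N (fun n => χR (s n)) := by
    have : (fun n => χR (s n)) = θ := funext h.ext
    rw [this]
    exact hθ
  have hirr : IsIrrCharacter Δ (fun x => β (mk x) * χR x) := by
    refine isIrr_mul_inflate L (χ := χR) h.irr ?_ (isIrr_comp mk hmk hβ) ?_
    · exact isIrr_of_comp (s.codRestrict L fun n => ⟨n, rfl⟩) (isCharacter_comp L.subtype (isIrr_isCharacter h.irr)) hχN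
    · intro x hx
      have h1 : mk x = 1 := (QuotientGroup.eq_one_iff _).2 hx
      show β (mk x) = β (mk 1)
      rw [h1, map_one]
  obtain ⟨χ, hχ⟩ := descend π h.surj ⟨_, hirr⟩ (by
    intro x k hk
    have h1 : mk k = ((e ⟨k, hk⟩ : Z) : Δ ⧸ L) := rfl
    show β (mk (x * k)) * χR (x * k) = β (mk x) * χR x
    rw [map_mul, h1, hβl, hl]
    have h2 : χR (x * k) = χR x * c' ⟨k, hk⟩ := hc' x ⟨k, hk⟩
    rw [h2, Units.val_inv_eq_inv_val]
    have h3 : ((c' ⟨k, hk⟩ : ℂˣ) : ℂ) ≠ 0 := Units.ne_zero _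
    field_simp)
  have hχN' : ∀ n : N, (χ : Γ → ℂ) n = β 1 * θ n := by
    intro n
    have h1 := hχ (s n)
    rw [h.section_] at h1
    rw [h1]
    show β (mk (s n)) * χR (s n) = β 1 * θ n
    have h2 : mk (s n) = 1 := (QuotientGroup.eq_one_iff _).2 ⟨n, rfl⟩
    rw [h2, h.ext]
  refine ⟨χ, χ.2, ?_, ?_, ?_⟩
  · have h1 : charDegree (χ : Γ → ℂ) = charDegree β * d := by
      apply charDegree_of_eq
      have := hχN' 1
      rw [Subgroup.coe_one] at this
      rw [this, ← coe_charDegree hβ, ← coe_charDegree hθ]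
      push_cast
      rfl
    rw [h1, hp.out.dvd_mul]
    tauto
  · have h1 : PRatC p (fun x : Δ => β (mk x) * χR x) := (hβr.comp mk).mul hp.out hRrat
    refine h1.of_range fun g => ?_
    obtain ⟨x, rfl⟩ := h.surj g
    exact ⟨x, hχ x⟩
  · letI := Fintype.ofFinite N
    rw [over_iff]
    have e1 : ((χ : Γ → ℂ) ∘ N.subtype) = β 1 • θ := by
      funext n
      exact hχN' n
    rw [e1, classInner_smul_left, classInner_irr_self hθ, mul_one]
    exact isIrr_apply_one_ne_zero hβ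

end Cfsg.Agent.H846.RatB
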