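import Cfsg.Agent.H846.RatB.FullTab
import Cfsg.Agent.H712.GmnTab

/-!
# Lemma L, all hypotheses discharged (S4891, TEAM B0-RAT)
-/

set_option autoImplicit false

namespace Cfsg.Agent.H846.RatB

universe u

theorem lemL_full {p : ℕ} [Fact p.Prime] (hp2 : p ≠ 2) : H627.BR.LemL.{u} p :=
  lemL_of_tab hp2 (H712.GmnTab.tab hp2)

end Cfsg.Agent.H846.RatB
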