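import Cfsg.Agent.H846.RatB.LemL
import Cfsg.Agent.H627.BR.Main
import Cfsg.Agent.H921.RatB.LayerTab
import Cfsg.Agent.H775.RatB.SLTask

/-!
# Lemma L from the table of `H663.GmnStep` (S4891, TEAM B0-RAT)
-/

set_option autoImplicit false

namespace Cfsg.Agent.H846.RatB

open Cfsg

universe u

theorem lemL_of_tab {p : ℕ} [Fact p.Prime] (hp2 : p ≠ 2) (hT : H663.GmnStep.Tab.{u} p) : H627.BR.LemL.{u} p := by
  intro G _ _ P N _ hs ψ hdeg hrat hinv
  exact lemmaL hp2 (Cfsg.Agent.H921.RatB.layer_of_tab hT Cfsg.Agent.H775.RatB.slTask) P N hs ψ hdeg hrat hinv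

end Cfsg.Agent.H846.RatB
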