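import Cfsg.Agent.H846.RatB.Lem

/-!
# Lemma L: the central case (S4891, TEAM B0-RAT)
-/

set_option autoImplicit false
set_option linter.style.haveILetI false
set_option linter.unusedSectionVars false
set_option linter.unusedVariables false

namespace Cfsg.Agent.H846.RatB

open Cfsg
open scoped Pointwise
open Cfsg.Agent.Characters.Core
open Cfsg.Agent.H595.Count Cfsg.Agent.H595.Central
open Cfsg.Agent.H672 (Over over_iff coe_charDegree charDegree_of_eq)

universe u

variable {p : ℕ} [hp : Fact p.Prime]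

/-- characters over a character with given action of the central subgroup `Z` -/
theorem over_lift {Q : Type*} [Group Q] [Finite Q] {Z K : Subgroup Q} (hZc : Z ≤ Subgroup.center Q) (hZK : Z ≤ K)
    (l : Z →* ℂˣ) {ξ : K → ℂ} (hξ : IsIrrCharacter K ξ) (hl : ∀ (z : Z) (k : K), ξ (k * ⟨z, hZK z.2⟩) = ξ k * l z)
    {χ : Q → ℂ} (hχ : IsIrrCharacter Q χ) (ho : Over K.subtype χ ξ) (q : Q) (z : Z) : χ (q * z) = χ q * l z := by
  classical
  letI := Fintype.ofFinite Q
  letI := Fintype.ofFinite Z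
  have h1 : Over (Subgroup.inclusion hZK) ξ (homIrr l : Z → ℂ) := by
    rw [over_iff]
    have e1 : ξ ∘ (Subgroup.inclusion hZK) = ξ 1 • (homIrr l : Z → ℂ) := by
      funext z
      have := hl z 1
      rw [one_mul] at this
      exact this
    rw [e1, classInner_smul_left, classInner_irr_self (homIrr l).2, mul_one]
    exact isIrr_apply_one_ne_zero hξ
  have h2 : Over (K.subtype.comp (Subgroup.inclusion hZK)) χ (homIrr l : Z → ℂ) :=
    (H672.over_comp_iff _ _ (isIrr_isCharacter hχ) (homIrr l).2).2 ⟨ξ, hξ, ho, h1⟩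
  rw [over_iff] at h2
  exact over_central (K.subtype.comp (Subgroup.inclusion hZK)) (fun n => hZc n.2) ⟨χ, hχ⟩ l h2 q z

/-- from a `P`-invariant character of a normal subgroup `K > Z` -/
theorem lemC_lift {n : ℕ} (hP : LemP.{u} p n) {Q : Type u} [Group Q] [Finite Q] {Z K : Subgroup Q}
    [hK : K.Normal] (l : Z →* ℂˣ) (hi : Z.index ≤ n + 1) (hZc : Z ≤ Subgroup.center Q) (hZK : Z < K) (hs : SN p Z)
    (P : Sylow p Q) {ξ : K → ℂ} (hξ : IsIrrCharacter K ξ)
    (hl : ∀ (z : Z) (k : K), ξ (k * ⟨z, hZK.le z.2⟩) = ξ k * l z) (hd : ¬ p ∣ charDegree ξ) (hr : PRatC p ξ)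
    (hinv : ∀ x ∈ P, ∀ k : K, ξ ⟨x * k * x⁻¹, hK.conj_mem k k.2 x⟩ = ξ k) :
    ∃ β : Q → ℂ, IsIrrCharacter Q β ∧ (∀ (q : Q) (z : Z), β (q * z) = β q * l z) ∧
      ¬ p ∣ charDegree β ∧ PRatC p β := by
  have h1 : K.index ≤ n := by
    have := Subgroup.index_strictAnti hZK
    omega
  obtain ⟨χ, h2, h3, h4, h5⟩ := hP Q K P ξ h1 hξ hd hr (hs.up hZK.le) hinv
  exact ⟨χ, h2, over_lift hZc hZK.le l hξ hl h2 h5, h3, h4⟩

/-- normal subgroups of order prime to `p` -/
theorem lemC_coprime {n : ℕ} (hP : LemP.{u} p n) {Q : Type u} [Group Q] [Finite Q] {Z K : Subgroup Q}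
    [hK : K.Normal] (l : Z →* ℂˣ) (hi : Z.index ≤ n + 1) (hZc : Z ≤ Subgroup.center Q) (hZK : Z < K) (hs : SN p Z)
    (hKp : ¬ p ∣ Nat.card K) :
    ∃ β : Q → ℂ, IsIrrCharacter Q β ∧ (∀ (q : Q) (z : Z), β (q * z) = β q * l z) ∧
      ¬ p ∣ charDegree β ∧ PRatC p β := by
  classical
  obtain ⟨P⟩ : Nonempty (Sylow p Q) := inferInstance
  letI := Fintype.ofFinite K
  let H : Subgroup K := Z.subgroupOf K
  letI := Fintype.ofFinite H
  let j : H →* Z := (K.subtype.comp H.subtype).codRestrict Z (fun x => x.2)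
  let l' : H →* ℂˣ := l.comp j
  have hHc : ∀ x : H, H.subtype x ∈ Subgroup.center K := by
    intro x
    rw [Subgroup.mem_center_iff]
    intro k
    apply Subtype.ext
    exact Subgroup.mem_center_iff.1 (hZc x.2) k
  have hdeg : charDegree (homIrr l' : H → ℂ) = 1 := by
    apply charDegree_of_eq
    rw [homIrr_apply, map_one, Units.val_one, Nat.cast_one]
  have hindex : ¬ p ∣ H.index := fun h => hKp (h.trans H.index_dvd_card)
  obtain ⟨ξ, h1, h2, h3, h4⟩ := exists_fixed_over (p := p) P.2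
    ((MulAut.conjNormal : Q →* MulAut K).comp (P : Subgroup Q).subtype) H hindex (homIrr l').2
    (by rw [hdeg]; exact fun h => hp.out.one_lt.ne' (Nat.dvd_one.1 h)) (by
      intro a k
      by_cases hk : k ∈ H
      · have h5 : (((MulAut.conjNormal : Q →* MulAut K).comp (P : Subgroup Q).subtype) a) k = k := by
          apply Subtype.ext
          have h6 : (a : Q) * (k : Q) = (k : Q) * (a : Q) := Subgroup.mem_center_iff.1 (hZc hk) a
          show (a : Q) * k * (a : Q)⁻¹ = k
          rw [h6, mul_inv_cancel_right]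
        rw [h5]
      · rw [CharactersDeep.IndFun.extendByZero_notMem H _ hk, CharactersDeep.IndFun.extendByZero_notMem H]
        intro h5
        apply hk
        have h6 : (a : Q) * k * (a : Q)⁻¹ ∈ Z := h5
        have h7 := Subgroup.mem_center_iff.1 (hZc h6) (a : Q)⁻¹
        have h8 : (k : Q) = (a : Q) * k * (a : Q)⁻¹ := by
          have h9 : (k : Q) * (a : Q)⁻¹ = (a : Q) * k * (a : Q)⁻¹ * (a : Q)⁻¹ := by
            rw [← h7]
            group
          exact mul_right_cancel h9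
        show (k : Q) ∈ Z
        rw [h8]
        exact h6)
  rw [over_iff] at h3
  refine lemC_lift hP l hi hZc hZK hs P h1 ?_ h4 (pRatC_of_coprime hKp (isIrr_isCharacter h1)) ?_
  · intro z k
    exact over_central H.subtype hHc ⟨ξ, h1⟩ l' h3 k ⟨⟨z, hZK.le z.2⟩, z.2⟩
  · intro x hx k
    exact h2 ⟨x, hx⟩ k

/-- the commutators of `K` lie in the central subgroup `Z` of order prime to `p`: the `p`-elements form a normal
subgroup -/
theorem exists_pgroup {Q : Type*} [Group Q] [Finite Q] {Z K : Subgroup Q} [hK : K.Normal]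
    (hZc : Z ≤ Subgroup.center Q) (hc : ∀ x ∈ K, ∀ y ∈ K, x * y * x⁻¹ * y⁻¹ ∈ Z) (hpK : p ∣ Nat.card K) :
    ∃ U : Subgroup Q, U.Normal ∧ IsPGroup p U ∧ U ≠ ⊥ := by
  have hnil : Group.IsNilpotent K := by
    have hn : (Z.subgroupOf K).Normal := by
      constructor
      intro z hz g
      have h1 : g * z * g⁻¹ = z := by
        apply Subtype.ext
        have h2 : (g : Q) * (z : Q) = (z : Q) * (g : Q) := Subgroup.mem_center_iff.1 (hZc hz) g
        show (g : Q) * z * (g : Q)⁻¹ = z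
        rw [h2, mul_inv_cancel_right]
      rw [h1]
      exact hz
    have hcomm : ∀ a b : K ⧸ Z.subgroupOf K, a * b = b * a := by
      intro a b
      obtain ⟨x, rfl⟩ := QuotientGroup.mk'_surjective (Z.subgroupOf K) a
      obtain ⟨y, rfl⟩ := QuotientGroup.mk'_surjective (Z.subgroupOf K) b
      rw [← map_mul, ← map_mul, eq_comm]
      apply (QuotientGroup.eq).2
      have h1 : (y * x)⁻¹ * (x * y) = (x⁻¹ * y⁻¹ * x * y : K) := by group
      rw [h1]
      have h2 := hc (x : Q)⁻¹ (inv_mem x.2) (y : Q)⁻¹ (inv_mem y.2)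
      rw [inv_inv, inv_inv] at h2
      exact h2
    letI : CommGroup (K ⧸ Z.subgroupOf K) := { (inferInstance : Group (K ⧸ Z.subgroupOf K)) with mul_comm := hcomm }
    refine Subgroup.isNilpotent_of_ker_le_center (QuotientGroup.mk' (Z.subgroupOf K)) ?_
    rw [QuotientGroup.ker_mk']
    intro x hx
    rw [Subgroup.mem_center_iff]
    intro g
    apply Subtype.ext
    exact Subgroup.mem_center_iff.1 (hZc hx) g
  obtain ⟨S⟩ : Nonempty (Sylow p K) := inferInstance
  have hSn : (S : Subgroup K).Normal := Group.isNilpotent_of_finite_tfae.out 0 3 rfl rfl |>.mp hnil p hp S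
  have hSc : (S : Subgroup K).Characteristic := S.characteristic_of_normal hSn
  refine ⟨(S : Subgroup K).map K.subtype, inferInstance, S.2.map _, ?_⟩
  intro h0
  rw [Subgroup.map_eq_bot_iff, Subgroup.ker_subtype, le_bot_iff] at h0
  have h1 := S.dvd_card_of_dvd_card hpK
  rw [h0, Subgroup.card_bot] at h1
  exact hp.out.one_lt.ne' (Nat.dvd_one.1 h1)

theorem lemC_step (hL : LayerTask.{u} p) {n : ℕ} (hP : LemP.{u} p n) (hC : LemC.{u} p n) : LemC.{u} p (n + 1) := by
  classical
  intro Q _ _ Z l hi hZc hZp hs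
  -- (A)
  by_cases hZ : Z = ⊤
  · let δ : Q →* ℂˣ := l.comp ((MonoidHom.id Q).codRestrict Z (fun q => by rw [hZ]; exact Subgroup.mem_top q))
    refine ⟨fun q => (δ q : ℂ), isIrr_hom δ, ?_, ?_, ?_⟩
    · intro q z
      show ((δ (q * z) : ℂˣ) : ℂ) = (δ q : ℂ) * l z
      rw [map_mul, Units.val_mul]
      rfl
    · have : charDegree (fun q => (δ q : ℂ)) = 1 := by
        apply charDegree_of_eq
        rw [map_one, Units.val_one, Nat.cast_one]
      rw [this]
      exact fun h => hp.out.one_lt.ne' (Nat.dvd_one.1 h)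
    · refine pRatC_of_coprime ?_ (isIrr_isCharacter (isIrr_hom δ))
      rw [hZ, Subgroup.card_top] at hZp
      exact hZp
  -- (B)
  by_cases hU : ∃ U : Subgroup Q, U.Normal ∧ IsPGroup p U ∧ U ≠ ⊥
  · obtain ⟨U, hUn, hUp, hU1⟩ := hU
    let mk : Q →* Q ⧸ U := QuotientGroup.mk' U
    have hmk : Function.Surjective mk := QuotientGroup.mk'_surjective U
    have hkmk : mk.ker = U := QuotientGroup.ker_mk' U
    let Zb : Subgroup (Q ⧸ U) := Z.map mk
    let f : Z →* Zb := (mk.comp Z.subtype).codRestrict Zb (fun z => ⟨z, z.2, rfl⟩)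
    have hfb : Function.Bijective f := by
      constructor
      · rw [injective_iff_map_eq_one]
        intro z hz
        have h1 : mk (z : Q) = 1 := congrArg (fun y : Zb => (y : Q ⧸ U)) hz
        have h2 : (z : Q) ∈ U := (QuotientGroup.eq_one_iff _).1 h1
        obtain ⟨k, hk⟩ := hUp ⟨z, h2⟩
        have h3 : z ^ p ^ k = 1 := by
          apply Subtype.ext
          have := congrArg Subtype.val hk
          simpa using this
        have h4 := orderOf_dvd_of_pow_eq_one h3
        have h5 := Nat.dvd_gcd h4 (orderOf_dvd_natCard z)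
        have h6 : Nat.gcd (p ^ k) (Nat.card Z) = 1 :=
          Nat.Coprime.pow_left k ((Nat.Prime.coprime_iff_not_dvd hp.out).2 hZp)
        rw [h6] at h5
        exact orderOf_eq_one_iff.1 (Nat.dvd_one.1 h5)
      · rintro ⟨_, z, hz, rfl⟩
        exact ⟨⟨z, hz⟩, rfl⟩
    let e : Z ≃* Zb := MulEquiv.ofBijective f hfb
    have hlt : Z < Z ⊔ U := by
      refine lt_of_le_of_ne le_sup_left fun h0 => hU1 ?_
      have h1 : U ≤ Z := by
        rw [h0]
        exact le_sup_right
      rw [eq_bot_iff]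
      intro x hx
      have h2 : (⟨x, h1 hx⟩ : Z) = 1 := by
        apply hfb.1
        rw [map_one]
        apply Subtype.ext
        exact (QuotientGroup.eq_one_iff x).2 hx
      exact congrArg Subtype.val h2
    have hZbc : Zb ≤ Subgroup.center (Q ⧸ U) := by
      rintro _ ⟨z, hz, rfl⟩
      rw [Subgroup.mem_center_iff]
      intro q
      obtain ⟨x, rfl⟩ := hmk q
      rw [← map_mul, ← map_mul, Subgroup.mem_center_iff.1 (hZc hz) x]
    have hZbi : Zb.index = (Z ⊔ U).index := by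
      show (Z.map mk).index = _
      rw [Subgroup.index_map, hkmk, MonoidHom.range_eq_top_of_surjective mk hmk, Subgroup.index_top, mul_one]
    have hZbm : (Z ⊔ U).map mk = Zb := by
      rw [Subgroup.map_sup]
      have h1 : U.map mk = ⊥ := by
        rw [Subgroup.map_eq_bot_iff, hkmk]
      rw [h1, sup_bot_eq]
    have hsb : SN p Zb := by
      rw [← hZbm]
      exact (hs.up hlt.le).map mk hmk (by rw [hkmk]; exact le_sup_right)
    have h1 : Zb.index ≤ n := by
      rw [hZbi]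
      have := Subgroup.index_strictAnti hlt
      omega
    have h2 : ¬ p ∣ Nat.card Zb := by
      rw [← Nat.card_congr e.toEquiv]
      exact hZp
    obtain ⟨β, h3, h4, h5, h6⟩ := hC (Q ⧸ U) Zb (l.comp e.symm.toMonoidHom) h1 hZbc h2 hsb
    refine ⟨fun q => β (mk q), isIrr_comp mk hmk h3, ?_, ?_, h6.comp mk⟩
    · intro q z
      have h7 := h4 (mk q) (e z)
      have h8 : (l.comp e.symm.toMonoidHom) (e z) = l z := by
        show l (e.symm (e z)) = l z
        rw [e.symm_apply_apply]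
      rw [h8] at h7
      show β (mk (q * z)) = β (mk q) * l z
      rw [map_mul]
      exact h7
    · have h7 : charDegree (fun q => β (mk q)) = charDegree β := by
        apply charDegree_of_eq
        rw [map_one, coe_charDegree h3]
      rw [h7]
      exact h5
  -- (C)
  by_cases hK : ∃ K : Subgroup Q, K.Normal ∧ Z < K ∧ ¬ p ∣ Nat.card K
  · obtain ⟨K, hKn, hZK, hKp⟩ := hK
    exact lemC_coprime hP l hi hZc hZK hs hKp
  -- (D)
  obtain ⟨K, hKmem, hKmin⟩ := (Set.toFinite {K : Subgroup Q | K.Normal ∧ Z < K}).exists_minimal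
    ⟨⊤, inferInstance, lt_top_iff_ne_top.2 hZ⟩
  obtain ⟨hKn, hZK⟩ := hKmem
  have hchief : ∀ M : Subgroup Q, M.Normal → Z ≤ M → M ≤ K → M = Z ∨ M = K := by
    intro M hM hZM hMK
    by_cases h : M = Z
    · exact Or.inl h
    · exact Or.inr (le_antisymm hMK (hKmin ⟨hM, lt_of_le_of_ne hZM (Ne.symm h)⟩ hMK))
  have hKp : p ∣ Nat.card K := by
    by_contra h
    exact hK ⟨K, hKn, hZK, h⟩
  have hrel : p ∣ Z.relIndex K := by
    have h1 : Nat.card Z * Z.relIndex K = Nat.card K := by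
      have h2 := Subgroup.relIndex_mul_relIndex ⊥ Z K bot_le hZK.le
      rwa [Subgroup.relIndex_bot_left, Subgroup.relIndex_bot_left] at h2
    rw [← h1, hp.out.dvd_mul] at hKp
    exact hKp.resolve_left hZp
  have hna : ∃ x ∈ K, ∃ y ∈ K, x * y * x⁻¹ * y⁻¹ ∉ Z := by
    by_contra h
    push Not at h
    exact hU (exists_pgroup hZc h hKp)
  obtain ⟨P⟩ : Nonempty (Sylow p Q) := inferInstance
  obtain ⟨ψ, h1, h2, h3, h4, h5⟩ := hL Q Z K hZK.le hZc hZp hchief hna hrel hs l P
  exact lemC_lift hP l hi hZc hZK hs P h1 h2 h3 h4 h5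

theorem lemC (hp2 : p ≠ 2) (hL : LayerTask.{u} p) (n : ℕ) : LemC.{u} p n := by
  induction n with
  | zero =>
    intro Q _ _ Z l hi
    exact absurd (Nat.le_zero.1 hi) Z.index_ne_zero_of_finite
  | succ n ih => exact lemC_step hL (ih.lemI hp2).lemP ih

/-- **Lemma L** -/
theorem lemL (hp2 : p ≠ 2) (hL : LayerTask.{u} p) {Γ : Type u} [Group Γ] [Finite Γ] (N : Subgroup Γ) [hN : N.Normal]
    (P : Sylow p Γ) {ψ : N → ℂ} (hψ : IsIrrCharacter N ψ) (hd : ¬ p ∣ charDegree ψ) (hr : PRatC p ψ) (hs : SN p N)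
    (hinv : ∀ x ∈ P, ∀ k : N, ψ ⟨x * k * x⁻¹, hN.conj_mem k k.2 x⟩ = ψ k) :
    ∃ χ : Γ → ℂ, IsIrrCharacter Γ χ ∧ ¬ p ∣ charDegree χ ∧ PRatC p χ ∧ Over N.subtype χ ψ :=
  ((lemC hp2 hL N.index).lemI hp2).lemP Γ N P ψ le_rfl hψ hd hr hs hinv

end Cfsg.Agent.H846.RatB
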