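import Cfsg.Agent.H846.RatB.FullTab
import Cfsg.Agent.H940.RatB.ThmN
import Cfsg.Agent.H145.BR.Table
import Cfsg.Agent.H627.BR.EasyCore

/-!
# S4891 from the rows (TEAM B0-RAT): the reduction

All inputs with big import closures are hypotheses: `hG` = `H712.GmnTab.tab`, `hS` = `S0000.result`, `hE` =
`H627.BR.easy` (from S4951).
-/

set_option autoImplicit false

namespace Cfsg.Agent.H846.RatB

open Cfsg Cfsg.Agent.H145.BR Cfsg.Agent.H627.BR

universe u

/-- the direction `⇒` of S4891 -/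
def EasyDir (p : ℕ) [Fact p.Prime] : Prop :=
  ∀ {M : Ideal AlgInt}, IsPModular p M → ∀ {G : Type u} [Group G] [Finite G] (P : Sylow p G),
    HasNormalPComplement p ↥(Subgroup.normalizer ((P : Subgroup G) : Set G)) → ∀ χ : IrrCharacter G,
    χ ∈ principalBlock M G → ¬ p ∣ charDegree (χ : G → ℂ) → PRat p (χ : G → ℂ) → (χ : G → ℂ) = fun _ => (1 : ℂ)

/-- **S4891 from the rows** -/
theorem main_iff {p : ℕ} [Fact p.Prime] (hp2 : p ≠ 2) (R : Rows p) (hG : H663.GmnStep.Tab.{u} p)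
    (hS : ∀ (G : Type u) [Group G] [Finite G] [IsSimpleGroup G], IsKnownSimple' G) (hE : EasyDir.{u} p)
    {M : Ideal AlgInt} (hM : IsPModular p M) {G : Type u} [Group G] [Finite G] (P : Sylow p G) :
    HasNormalPComplement p ↥(Subgroup.normalizer ((P : Subgroup G) : Set G)) ↔
      ∀ χ : IrrCharacter G, χ ∈ principalBlock M G → ¬ p ∣ charDegree (χ : G → ℂ) → PRat p (χ : G → ℂ) →
        (χ : G → ℂ) = fun _ => (1 : ℂ) := by
  have hL : LemL.{u} p := lemL_of_tab hp2 hG
  have hX : ExTh.{u} p := H940.RatB.exTh (R.all hS)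
  have hN : ThmN.{u} p := H940.RatB.theoremN hL hX
  exact ⟨fun h χ h1 h2 h3 => hE hM P h χ h1 h2 h3, fun h => main hp2 hL hN hX hM P h⟩

end Cfsg.Agent.H846.RatB
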